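/-
Package NB of claim (N) for S2858: an elementary abelian `B ≤ D₁` lies in the `L`-core of
`D₁ ⊓ D₂` or in the `L`-core of `D₁ ⊓ D₃`.
-/
import Cfsg.Agent.Lib.Helper45.S3Amal.NDefs

set_option autoImplicit false

namespace Cfsg.Agent.Lib.Helper41.S3Amal

open Cfsg.Agent.Lib.Helper71.Sym Cfsg.Agent.Lib.Helper45.S3Amal

universe u

theorem pkgNB : PkgNB.{u} := by
  intro G _ L S D₁ D₂ D₃ B hA hZ hD₂S hD₃S hi1 hi2 hi3 hBD hB2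
  haveI := hA.fin
  have hSL : S ≤ L := hA.hTH
  have hD₁S : D₁ ≤ S := hA.hQT
  haveI : Finite ↥S := Finite.of_injective (Subgroup.inclusion hSL) (Subgroup.inclusion_injective _)
  -- for `g ∈ L \ S`: `cj g S ≠ S`
  have hconj : ∀ g ∈ L, g ∉ S → cj g S ≠ S := by
    intro g hg hgS heq
    obtain ⟨t, htS, htD⟩ := hZ.exists_TQ
    refine htD (hZ.inter g hg hgS t htS ?_)
    have : g * t * g⁻¹ ∈ cj g S := conj_mem_cj htS
    rwa [heq] at this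
  -- fact F
  have hF : ∀ a ∈ L, B ≤ cj a (D₁ ⊓ D₂) ∨ B ≤ cj a (D₁ ⊓ D₃) := by
    intro a ha
    rw [← SubgroupClass.subset_union]
    intro b hb
    have hb1 : a⁻¹ * b * a ∈ D₁ := by
      have := hA.hQn a⁻¹ (L.inv_mem ha) b (hBD hb)
      simpa using this
    have hb2 : a⁻¹ * b * a * (a⁻¹ * b * a) = 1 := by
      have e : a⁻¹ * b * a * (a⁻¹ * b * a) = a⁻¹ * (b * b) * a := by group
      rw [e, hB2 b hb]; simp
    rcases hi1 _ (hD₁S hb1) hb2 with h | h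
    · left
      show b ∈ cj a (D₁ ⊓ D₂)
      rw [mem_cj]; exact ⟨hb1, h⟩
    · right
      show b ∈ cj a (D₁ ⊓ D₃)
      rw [mem_cj]; exact ⟨hb1, h⟩
  -- key lemma
  have key : ∀ M : Subgroup G,
      (∀ g ∈ L, cj g S ≠ S → ∀ h ∈ L, M ⊓ cj g M ≤ cj h M) →
      ∀ a ∈ L, ∀ b ∈ L, a⁻¹ * b ∉ S → B ≤ cj a M → B ≤ cj b M → ∀ h ∈ L, B ≤ cj h M := by
    intro M hi a ha b hb hab hBa hBb h hh x hx
    have hg : a⁻¹ * b ∈ L := L.mul_mem (L.inv_mem ha) hb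
    have h1 := hi _ hg (hconj _ hg hab) (a⁻¹ * h) (L.mul_mem (L.inv_mem ha) hh)
    have hxa := hBa hx
    have hxb := hBb hx
    rw [mem_cj] at hxa hxb
    have hmem : a⁻¹ * x * a ∈ M ⊓ cj (a⁻¹ * b) M := by
      refine ⟨hxa, ?_⟩
      show a⁻¹ * x * a ∈ cj (a⁻¹ * b) M
      rw [mem_cj]
      have e : (a⁻¹ * b)⁻¹ * (a⁻¹ * x * a) * (a⁻¹ * b) = b⁻¹ * x * b := by group
      rw [e]; exact hxb
    have h2 := h1 hmem
    rw [mem_cj] at h2 ⊢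
    have e : (a⁻¹ * h)⁻¹ * (a⁻¹ * x * a) * (a⁻¹ * h) = h⁻¹ * x * h := by group
    rw [e] at h2; exact h2
  obtain ⟨h₁, hh₁, h₂, hh₂, hh₁S, hh₂S, h12⟩ := hZ.two_cosets
  have h1one : (1 : G)⁻¹ * h₁ ∉ S := by simpa using hh₁S
  have h2one : (1 : G)⁻¹ * h₂ ∉ S := by simpa using hh₂S
  rcases hF 1 L.one_mem with f1 | f1 <;> rcases hF h₁ hh₁ with f2 | f2 <;>
    rcases hF h₂ hh₂ with f3 | f3
  · exact Or.inl (key _ hi2 1 L.one_mem h₁ hh₁ h1one f1 f2)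
  · exact Or.inl (key _ hi2 1 L.one_mem h₁ hh₁ h1one f1 f2)
  · exact Or.inl (key _ hi2 1 L.one_mem h₂ hh₂ h2one f1 f3)
  · exact Or.inr (key _ hi3 h₁ hh₁ h₂ hh₂ h12 f2 f3)
  · exact Or.inl (key _ hi2 h₁ hh₁ h₂ hh₂ h12 f2 f3)
  · exact Or.inr (key _ hi3 1 L.one_mem h₂ hh₂ h2one f1 f3)
  · exact Or.inr (key _ hi3 1 L.one_mem h₁ hh₁ h1one f1 f2)
  · exact Or.inr (key _ hi3 1 L.one_mem h₁ hh₁ h1one f1 f2)

end Cfsg.Agent.Lib.Helper41.S3Amal
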