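/-
Package NI of claim (N) for S2858: the consequences (I1)-(I3) of the induction step.
-/
import Cfsg.Agent.Lib.Helper45.S3Amal.NDefs

set_option autoImplicit false

namespace Cfsg.Agent.Lib.Helper41.S3Amal

open Cfsg.Agent.Lib.Helper71.Sym Cfsg.Agent.Lib.Helper45.S3Amal

universe u

/-- the elements of `L` commuting with `l` modulo `K` (`K` normalized by `L`). -/
def cmod {G : Type*} [Group G] (K L : Subgroup G) (hK : Nz L K) (l : G) : Subgroup G where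
  carrier := {x | x ∈ L ∧ l * x * l⁻¹ * x⁻¹ ∈ K}
  one_mem' := ⟨L.one_mem, by simp⟩
  mul_mem' := by
    rintro x y ⟨hx, hxK⟩ ⟨hy, hyK⟩
    refine ⟨L.mul_mem hx hy, ?_⟩
    have h1 := hK x hx _ hyK
    have h2 := K.mul_mem hxK h1
    have e : l * (x * y) * l⁻¹ * (x * y)⁻¹
        = (l * x * l⁻¹ * x⁻¹) * (x * (l * y * l⁻¹ * y⁻¹) * x⁻¹) := by group
    rw [e]; exact h2
  inv_mem' := by
    rintro x ⟨hx, hxK⟩
    refine ⟨L.inv_mem hx, ?_⟩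
    have h1 := hK x⁻¹ (L.inv_mem hx) _ (K.inv_mem hxK)
    have e : l * x⁻¹ * l⁻¹ * x⁻¹⁻¹ = x⁻¹ * (l * x * l⁻¹ * x⁻¹)⁻¹ * x⁻¹⁻¹ := by group
    rw [e]; exact h1

theorem mem_cmod {G : Type*} [Group G] {K L : Subgroup G} {hK : Nz L K} {l x : G} :
    x ∈ cmod K L hK l ↔ x ∈ L ∧ l * x * l⁻¹ * x⁻¹ ∈ K := Iff.rfl

theorem pkgNI : PkgNI.{u} := by
  intro G _ L₁ L₂ S D₁ D₂ K hA₁ hA₂ hZ₁ hZ₂ hne ht hKS hK₁ hK₂ hKmax hC hE₁ hE₂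
  haveI := hA₁.fin
  have hSL₁ : S ≤ L₁ := hA₁.hTH
  have hSL₂ : S ≤ L₂ := hA₂.hTH
  have hD₁S : D₁ ≤ S := hA₁.hQT
  have hD₂S : D₂ ≤ S := hA₂.hQT
  haveI : Finite ↥S := Finite.of_injective (Subgroup.inclusion hSL₁) (Subgroup.inclusion_injective _)
  haveI : Finite ↥D₁ := Finite.of_injective (Subgroup.inclusion hD₁S) (Subgroup.inclusion_injective _)
  haveI : Finite ↥D₂ := Finite.of_injective (Subgroup.inclusion hD₂S) (Subgroup.inclusion_injective _)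
  obtain ⟨a₁, ha₁, ha₁S⟩ : ∃ a ∈ L₁, a ∉ S := by
    obtain ⟨h, hh, t, htS, hn⟩ := hA₁.hTn
    exact ⟨h, hh, fun hS => hn (S.mul_mem (S.mul_mem hS htS) (S.inv_mem hS))⟩
  obtain ⟨a₂, ha₂, ha₂S⟩ : ∃ a ∈ L₂, a ∉ S := by
    obtain ⟨h, hh, t, htS, hn⟩ := hA₂.hTn
    exact ⟨h, hh, fun hS => hn (S.mul_mem (S.mul_mem hS htS) (S.inv_mem hS))⟩
  have hKD₁ : K ≤ D₁ := fun k hk => hZ₁.inter a₁ ha₁ ha₁S k (hKS hk) (hKS (hK₁ a₁ ha₁ k hk))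
  have hKD₂ : K ≤ D₂ := fun k hk => hZ₂.inter a₂ ha₂ ha₂S k (hKS hk) (hKS (hK₂ a₂ ha₂ k hk))
  have hcard : Nat.card ↥D₁ = Nat.card ↥D₂ := by
    have h1 := hA₁.hTQ; have h2 := hA₂.hTQ; omega
  have hnle₂ : ¬ D₂ ≤ D₁ := fun hle =>
    hne (Subgroup.eq_of_le_of_card_ge hle (le_of_eq hcard)).symm
  have hnle₁ : ¬ D₁ ≤ D₂ := fun hle =>
    hne (Subgroup.eq_of_le_of_card_ge hle (le_of_eq hcard.symm))
  obtain ⟨u₂, hu₂, hu₂D⟩ := SetLike.not_le_iff_exists.1 hnle₂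
  obtain ⟨u₁, hu₁, hu₁D⟩ := SetLike.not_le_iff_exists.1 hnle₁
  -- every element of `S` is in `D₁` or of the form `d * u₂`
  have hdec₁ : ∀ s ∈ S, s ∈ D₁ ∨ s * u₂⁻¹ ∈ D₁ := by
    intro s hs
    by_cases h : s ∈ D₁
    · exact Or.inl h
    · exact Or.inr (hZ₁.mul_Q s hs u₂⁻¹ (S.inv_mem (hD₂S hu₂)) h
        (fun h' => hu₂D (by simpa using D₁.inv_mem h')))
  -- `D₁ ⊓ D₂` is central in `S` modulo `K`
  have hcen : ∀ m ∈ D₁ ⊓ D₂, ∀ s ∈ S, m * s * m⁻¹ * s⁻¹ ∈ K := by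
    intro m hm s hs
    have hmL : m ∈ L₁ := hSL₁ (hD₁S hm.1)
    have hD₁le : D₁ ≤ cmod K L₁ hK₁ m := fun d hd =>
      ⟨hSL₁ (hD₁S hd), (hE₁ m hm.1 d hd).2⟩
    have hu₂mem : u₂ ∈ cmod K L₁ hK₁ m := ⟨hSL₁ (hD₂S hu₂), (hE₂ m hm.2 u₂ hu₂).2⟩
    have hsmem : s ∈ cmod K L₁ hK₁ m := by
      rcases hdec₁ s hs with h | h
      · exact hD₁le h
      · have := (cmod K L₁ hK₁ m).mul_mem (hD₁le h) hu₂mem
        simpa using this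
    exact hsmem.2
  refine ⟨?_, ?_, ?_⟩
  · -- (I1)
    intro g hg hgK
    by_contra hcon
    push Not at hcon
    obtain ⟨hg₁, hg₂⟩ := hcon
    -- g = v₁ * u₂ with v₁ ∈ D₁ \ D₂
    have hv₁ : g * u₂⁻¹ ∈ D₁ := (hdec₁ g hg).resolve_left hg₁
    set v₁ := g * u₂⁻¹ with hv₁def
    have hgv : g = v₁ * u₂ := by simp [hv₁def]
    have hv₁D₂ : v₁ ∉ D₂ := fun h => hg₂ (by rw [hgv]; exact D₂.mul_mem h hu₂)
    -- u₂ commutes with v₁ modulo K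
    have hv₁L : v₁ ∈ L₁ := hSL₁ (hD₁S hv₁)
    have hcomm : u₂ * v₁ * u₂⁻¹ * v₁⁻¹ ∈ K := by
      have hk0 : v₁ * u₂ * (v₁ * u₂) ∈ K := by rw [← hgv]; exact hgK
      have hk2 : u₂ * u₂ ∈ K := (hE₂ u₂ hu₂ u₂ hu₂).1
      have hk1 : v₁ * v₁ ∈ K := (hE₁ v₁ hv₁ v₁ hv₁).1
      have h3 := hK₁ v₁⁻¹ (L₁.inv_mem hv₁L) _ (K.mul_mem hk0 (K.inv_mem hk2))
      have h4 := K.mul_mem h3 (K.inv_mem hk1)
      have e : u₂ * v₁ * u₂⁻¹ * v₁⁻¹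
          = v₁⁻¹ * (v₁ * u₂ * (v₁ * u₂) * (u₂ * u₂)⁻¹) * v₁⁻¹⁻¹ * (v₁ * v₁)⁻¹ := by group
      rw [e]; exact h4
    -- u₂ commutes with all of D₁ modulo K
    have hall : ∀ d ∈ D₁, u₂ * d * u₂⁻¹ * d⁻¹ ∈ K := by
      intro d hd
      have hM : D₁ ⊓ D₂ ≤ cmod K L₁ hK₁ u₂ := fun m hm =>
        ⟨hSL₁ (hD₁S hm.1), (hE₂ u₂ hu₂ m hm.2).2⟩
      have hv₁mem : v₁ ∈ cmod K L₁ hK₁ u₂ := ⟨hv₁L, hcomm⟩
      have hdmem : d ∈ cmod K L₁ hK₁ u₂ := by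
        by_cases h : d ∈ D₂
        · exact hM ⟨hd, h⟩
        · have h5 : d * v₁ ∈ D₂ := hZ₂.mul_Q d (hD₁S hd) v₁ (hD₁S hv₁) h hv₁D₂
          have h6 := (cmod K L₁ hK₁ u₂).mul_mem (hM ⟨D₁.mul_mem hd hv₁, h5⟩)
            ((cmod K L₁ hK₁ u₂).inv_mem hv₁mem)
          simpa using h6
      exact hdmem.2
    exact hu₂D (hC u₂ (hSL₁ (hD₂S hu₂)) hall)
  · -- (I2)
    intro g hg hgS h hh x hx
    have hxM : x ∈ D₁ ⊓ D₂ := hx.1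
    have hxg : x ∈ cj g (D₁ ⊓ D₂) := hx.2
    have hxL : x ∈ L₁ := hSL₁ (hD₁S hxM.1)
    have hSle : S ≤ cmod K L₁ hK₁ x := fun s hs => ⟨hSL₁ hs, hcen x hxM s hs⟩
    have hgSle : cj g S ≤ cmod K L₁ hK₁ x := by
      intro y hy
      rw [mem_cj] at hy hxg
      have hyL : y ∈ L₁ := by
        have := L₁.mul_mem (L₁.mul_mem hg (hSL₁ hy)) (L₁.inv_mem hg)
        simpa [mul_assoc] using this
      refine ⟨hyL, ?_⟩
      have h1 := hcen _ hxg _ hy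
      have h2 := hK₁ g hg _ h1
      have e : x * y * x⁻¹ * y⁻¹
          = g * (g⁻¹ * x * g * (g⁻¹ * y * g) * (g⁻¹ * x * g)⁻¹ * (g⁻¹ * y * g)⁻¹) * g⁻¹ := by
        group
      rw [e]; exact h2
    have hAL : cmod K L₁ hK₁ x ≤ L₁ := fun y hy => hy.1
    have hAeq : cmod K L₁ hK₁ x = L₁ := by
      rcases hZ₁.maxT _ hSle hAL with h' | h'
      · exfalso
        rw [h'] at hgSle
        exact hgS (Subgroup.eq_of_le_of_card_ge hgSle (le_of_eq (card_cj g S).symm))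
      · exact h'
    have hmem : h⁻¹ ∈ cmod K L₁ hK₁ x := by rw [hAeq]; exact L₁.inv_mem hh
    have h1 : x * h⁻¹ * x⁻¹ * h⁻¹⁻¹ ∈ K := hmem.2
    rw [mem_cj]
    have h2 : x⁻¹ * (x * h⁻¹ * x⁻¹ * h⁻¹⁻¹) ∈ D₁ ⊓ D₂ :=
      (D₁ ⊓ D₂).mul_mem ((D₁ ⊓ D₂).inv_mem hxM) ⟨hKD₁ h1, hKD₂ h1⟩
    have h3 := (D₁ ⊓ D₂).inv_mem h2
    have e : (x⁻¹ * (x * h⁻¹ * x⁻¹ * h⁻¹⁻¹))⁻¹ = h⁻¹ * x * h := by group
    rw [e] at h3; exact h3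
  · -- (I3)
    intro hM
    obtain ⟨t, htS, ht₁, ht₂⟩ := ht
    haveI : Finite ↥(D₁ ⊓ D₂) :=
      Finite.of_injective (Subgroup.inclusion (inf_le_left.trans hD₁S))
        (Subgroup.inclusion_injective _)
    -- conjugation by t maps L₁ to L₂
    have htL : ∀ h₂ ∈ L₂, t⁻¹ * h₂ * t ∈ L₁ := by
      intro h₂ hh₂
      rw [← ht₁, mem_cj] at hh₂; exact hh₂
    have htL' : ∀ h₁ ∈ L₁, t⁻¹ * h₁ * t ∈ L₂ := by
      intro h₁ hh₁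
      rw [← ht₂, mem_cj] at hh₁; exact hh₁
    have htS' : ∀ s ∈ S, t * s * t⁻¹ ∈ S := by
      intro s hs
      have : t * s * t⁻¹ ∈ cj t S := conj_mem_cj hs
      rwa [htS] at this
    have h12 : cj t D₁ ≤ D₂ := by
      intro y hy
      rw [mem_cj] at hy
      have hyS : y ∈ S := by
        have := htS' _ (hD₁S hy)
        simpa [mul_assoc] using this
      refine hZ₂.inter a₂ ha₂ ha₂S y hyS ?_
      have h1 := hA₁.hQn _ (htL a₂ ha₂) _ hy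
      have h2 := htS' _ (hD₁S h1)
      have e : t * (t⁻¹ * a₂ * t * (t⁻¹ * y * t) * (t⁻¹ * a₂ * t)⁻¹) * t⁻¹ = a₂ * y * a₂⁻¹ := by
        group
      rw [e] at h2; exact h2
    have h21 : cj t D₂ ≤ D₁ := by
      intro y hy
      rw [mem_cj] at hy
      have hyS : y ∈ S := by
        have := htS' _ (hD₂S hy)
        simpa [mul_assoc] using this
      refine hZ₁.inter a₁ ha₁ ha₁S y hyS ?_
      have h1 := hA₂.hQn _ (htL' a₁ ha₁) _ hy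
      have h2 := htS' _ (hD₂S h1)
      have e : t * (t⁻¹ * a₁ * t * (t⁻¹ * y * t) * (t⁻¹ * a₁ * t)⁻¹) * t⁻¹ = a₁ * y * a₁⁻¹ := by
        group
      rw [e] at h2; exact h2
    have hle : cj t (D₁ ⊓ D₂) ≤ D₁ ⊓ D₂ := by
      rw [cj_inf]
      exact le_inf (inf_le_right.trans h21) (inf_le_left.trans h12)
    have heq : cj t (D₁ ⊓ D₂) = D₁ ⊓ D₂ :=
      Subgroup.eq_of_le_of_card_ge hle (le_of_eq (card_cj t _).symm)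
    -- M is normalized by L₂
    have hM₂ : Nz L₂ (D₁ ⊓ D₂) := by
      intro h₂ hh₂ m hm
      have hm' : m ∈ cj t (D₁ ⊓ D₂) := by rw [heq]; exact hm
      rw [mem_cj] at hm'
      have h1 := hM _ (htL h₂ hh₂) _ hm'
      have h2 : t * (t⁻¹ * h₂ * t * (t⁻¹ * m * t) * (t⁻¹ * h₂ * t)⁻¹) * t⁻¹ ∈ cj t (D₁ ⊓ D₂) :=
        conj_mem_cj h1
      rw [heq] at h2
      have e : t * (t⁻¹ * h₂ * t * (t⁻¹ * m * t) * (t⁻¹ * h₂ * t)⁻¹) * t⁻¹ = h₂ * m * h₂⁻¹ := by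
        group
      rw [e] at h2; exact h2
    have hMK : D₁ ⊓ D₂ ≤ K := hKmax _ (inf_le_left.trans hD₁S) hM hM₂
    -- now every element of L₁ centralizes D₁ modulo K
    have hall : ∀ g ∈ L₁, ∀ d ∈ D₁, g * d * g⁻¹ * d⁻¹ ∈ K := by
      intro g hg d hd
      by_cases hdK : d ∈ K
      · exact K.mul_mem (hK₁ g hg d hdK) (K.inv_mem hdK)
      · have hdD₂ : d ∉ D₂ := fun h => hdK (hMK ⟨hd, h⟩)
        have hgd : g * d * g⁻¹ ∈ D₁ := hA₁.hQn g hg d hd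
        have hgdK : g * d * g⁻¹ ∉ D₂ := by
          intro h
          have h1 := hK₁ g⁻¹ (L₁.inv_mem hg) _ (hMK ⟨hgd, h⟩)
          exact hdK (by simpa [mul_assoc] using h1)
        have hdinv : d⁻¹ ∉ D₂ := fun h => hdD₂ (by simpa using D₂.inv_mem h)
        have h5 : g * d * g⁻¹ * d⁻¹ ∈ D₂ :=
          hZ₂.mul_Q _ (hD₁S hgd) _ (S.inv_mem (hD₁S hd)) hgdK hdinv
        exact hMK ⟨D₁.mul_mem hgd (D₁.inv_mem hd), h5⟩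
    exact ha₁S (hD₁S (hC a₁ ha₁ (hall a₁ ha₁)))

end Cfsg.Agent.Lib.Helper41.S3Amal
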